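import Groth.Agent.H1SkDual.Basic
import Groth.Agent.KFlatLib.Ring.DualizingFlat
import Mathlib.RingTheory.AdicCompletion.AsTensorProduct

/-!
# Depth along a flat map through dualizing complexes
-/

set_option autoImplicit false
set_option linter.unusedSectionVars false
set_option backward.isDefEq.respectTransparency false

universe u v

open CategoryTheory
open scoped TensorProduct

attribute [local instance] HasDerivedCategory.standard

namespace Groth.Agent.H1DepthFlat

/-- The support of a flat base change is the preimage of the support. -/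
theorem mem_support_baseChange {A B : Type u} [CommRing A] [CommRing B] [Algebra A B] [Module.Flat A B]
    (N : Type v) [AddCommGroup N] [Module A N] (q : PrimeSpectrum B) :
    q ∈ Module.support B (B ⊗[A] N) ↔ PrimeSpectrum.comap (algebraMap A B) q ∈ Module.support A N := by
  constructor
  · intro h
    by_contra hn
    rw [Module.notMem_support_iff'] at hn
    obtain ⟨z, hz⟩ := Module.mem_support_iff'.1 h
    suffices key : ∀ w : B ⊗[A] N, ∃ s : A, algebraMap A B s ∉ q.asIdeal ∧ s • w = 0 by
      obtain ⟨s, hs, hs0⟩ := key z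
      exact hz _ hs (by rw [algebraMap_smul]; exact hs0)
    intro w
    induction w using TensorProduct.induction_on with
    | zero => exact ⟨1, by rw [map_one]; exact (Ideal.ne_top_iff_one _).1 q.isPrime.ne_top, smul_zero _⟩
    | tmul b x =>
      obtain ⟨s, hs, hsx⟩ := hn x
      exact ⟨s, hs, by rw [← TensorProduct.tmul_smul, hsx, TensorProduct.tmul_zero]⟩
    | add w₁ w₂ h₁ h₂ =>
      obtain ⟨s₁, a₁, b₁⟩ := h₁
      obtain ⟨s₂, a₂, b₂⟩ := h₂
      exact ⟨s₁ * s₂, by rw [map_mul]; exact fun hh => (q.isPrime.mem_or_mem hh).elim a₁ a₂,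
        by rw [smul_add, mul_comm, mul_smul, b₁, smul_zero, zero_add, mul_comm, mul_smul, b₂, smul_zero]⟩
  · intro h
    obtain ⟨x, hx⟩ := Module.mem_support_iff'.1 h
    refine Module.mem_support_iff'.2 ⟨(1 : B) ⊗ₜ[A] x, fun b hb h0 => hb ?_⟩
    let K : Ideal A := LinearMap.ker (LinearMap.toSpanSingleton A N x)
    let f : A ⧸ K →ₗ[A] N := K.liftQ (LinearMap.toSpanSingleton A N x) le_rfl
    have hinj : Function.Injective f := LinearMap.ker_eq_bot.1 (Submodule.ker_liftQ_eq_bot _ _ _ le_rfl)
    have h1 : b ⊗ₜ[A] (1 : A ⧸ K) = 0 := by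
      apply Module.Flat.lTensor_preserves_injective_linearMap (M := B) f hinj
      rw [map_zero, LinearMap.lTensor_tmul]
      show b ⊗ₜ[A] ((1 : A) • x) = 0
      rw [one_smul]
      rwa [TensorProduct.smul_tmul', smul_eq_mul, mul_one] at h0
    have h2 : Ideal.Quotient.mk (K.map (algebraMap A B)) b = 0 := by
      have h3 := congrArg (Algebra.TensorProduct.quotIdealMapEquivTensorQuot B K).symm h1
      rw [map_zero] at h3
      have e : b ⊗ₜ[A] (1 : A ⧸ K) = b • ((1 : B) ⊗ₜ[A] (1 : A ⧸ K)) := by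
        rw [TensorProduct.smul_tmul', smul_eq_mul, mul_one]
      rw [e, map_smul, ← Algebra.TensorProduct.one_def, map_one, Algebra.smul_def, mul_one] at h3
      exact h3
    refine Ideal.map_le_iff_le_comap.2 (fun a ha => ?_) (Ideal.Quotient.eq_zero_iff_mem.1 h2)
    by_contra hna
    exact hx a hna ha

variable {A : Type u} [CommRing A] [IsNoetherianRing A]

/-- Depth is read off from the top Ext degree. -/
theorem ext_top_of_depth {ω : Dual.D A} (hω : Dual.IsDualizing A ω) {ν : PrimeSpectrum A → ℤ}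
    (hν : KFlatLib.IsExtDegree ω ν) (M : Type u) [AddCommGroup M] [Module A M] [Module.Finite A M]
    (p : PrimeSpectrum A) [Nontrivial (LocalizedModule p.asIdeal.primeCompl M)] (t : ℕ)
    (ht : LocCoh.depth (Localization.AtPrime p.asIdeal) (LocalizedModule p.asIdeal.primeCompl M) = t) :
    p ∈ Module.support A (Dual.inD A M ⟶ ω⟦ν p - t⟧) ∧
      ∀ i : ℤ, p ∈ Module.support A (Dual.inD A M ⟶ ω⟦i⟧) → i ≤ ν p - t := by
  let B := Localization.AtPrime p.asIdeal
  let N := LocalizedModule p.asIdeal.primeCompl M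
  haveI : Module.Finite B N :=
    Module.Finite.of_isLocalizedModule p.asIdeal.primeCompl (LocalizedModule.mkLinearMap p.asIdeal.primeCompl M)
  obtain ⟨ω', h1, h2, h3⟩ := PerfGen7.LocalizeDual.exists_local hω hν p
  obtain ⟨d, hd⟩ := LC.exists_supportDim_eq_nat (R := B) N
  have hdep := (KFlatLib.depth_eq_iff_ext h1 h2 N t).1 ht
  refine ⟨?_, fun i hi => ?_⟩
  · obtain ⟨c⟩ := h3 M (-(t : ℤ))
    rw [show ν p + -(t : ℤ) = ν p - t by omega] at c
    exact Module.mem_support_iff.2 (c.toEquiv.nontrivial_congr.1 hdep.2)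
  · obtain ⟨c⟩ := h3 M (i - ν p)
    rw [add_sub_cancel] at c
    have hnt : Nontrivial (Dual.inD B N ⟶ ω'⟦i - ν p⟧) :=
      c.toEquiv.nontrivial_congr.2 (Module.mem_support_iff.1 hi)
    obtain ⟨-, a2⟩ := (KFlatLib.ext_amplitude_and_support h1 h2 N d hd (i - ν p)).1 hnt
    by_contra hc
    have h := hdep.1 (-(i - ν p)).toNat (by omega)
    rw [show (-((-(i - ν p)).toNat : ℤ)) = i - ν p by omega] at h
    exact not_subsingleton _ h

/-- The length of an interval of primes is the jump of the codimension function. -/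
theorem krullDim_Icc {ν : PrimeSpectrum A → ℤ} (hcov : ∀ p q : PrimeSpectrum A, p ⋖ q → ν q = ν p + 1)
    (hmono : StrictMono ν) {p q : PrimeSpectrum A} (hpq : p ≤ q) :
    Order.krullDim (Set.Icc p q) = ((ν q - ν p).toNat : WithBot ℕ∞) := by
  refine le_antisymm (iSup_le fun s => ?_) ?_
  · have h5 : ∀ k : ℕ, ∀ hk : k < s.length + 1, ν p + k ≤ ν (s ⟨k, hk⟩).1 := by
      intro k
      induction k with
      | zero => intro hk; simpa using hmono.monotone (s ⟨0, hk⟩).2.1
      | succ k ih =>
        intro hk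
        have h6 := ih (by omega)
        have h7 := hmono (s.step ⟨k, by omega⟩)
        simp only [Fin.castSucc_mk, Fin.succ_mk] at h7
        push_cast
        omega
    have h8 := h5 s.length (by omega)
    have h9 := hmono.monotone (s ⟨s.length, by omega⟩).2.2
    exact_mod_cast (show s.length ≤ (ν q - ν p).toNat by omega)
  · obtain ⟨l, hl1, hl2, hl3⟩ := KFlatLib.exists_chain_of_le hcov _ q rfl p hpq
    let s : LTSeries (Set.Icc p q) :=
      { length := l.length
        toFun := fun k => ⟨l k, hl1.trans (l.monotone (Fin.zero_le k)),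
          (l.monotone (Fin.le_last k)).trans hl2.le⟩
        step := fun k => l.step k }
    have := Order.LTSeries.length_le_krullDim s
    rwa [show (ν q - ν p).toNat = l.length by omega]

variable {B : Type u} [CommRing B] [IsNoetherianRing B] [Algebra A B] [Module.Flat A B]

/-- Depth and interval lengths along a flat map preserving dualizing complexes. -/
theorem depth_add_krullDim (hA : ∃ ω : Dual.D A, Dual.IsDualizing A ω)
    (hmax : ∀ n : Ideal B, n.IsMaximal → ∃ I : Ideal A, I.map (algebraMap A B) = n)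
    (M : Type u) [AddCommGroup M] [Module A M] [Module.Finite A M]
    (M' : Type u) [AddCommGroup M'] [Module B M'] (eM : (B ⊗[A] M) ≃ₗ[B] M')
    (p' q' : PrimeSpectrum B) (hpq : p' ≤ q')
    (hq : (q'.asIdeal.comap (algebraMap A B)).map (algebraMap A B) = q'.asIdeal) :
    LocCoh.depth (Localization.AtPrime (p'.asIdeal.comap (algebraMap A B)))
        (LocalizedModule (p'.asIdeal.comap (algebraMap A B)).primeCompl M) ≤
      LocCoh.depth (Localization.AtPrime p'.asIdeal) (LocalizedModule p'.asIdeal.primeCompl M') ∧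
    ((LocCoh.depth (Localization.AtPrime p'.asIdeal) (LocalizedModule p'.asIdeal.primeCompl M') : ℕ∞) : WithBot ℕ∞) +
        Order.krullDim (Set.Icc p' q') =
      ((LocCoh.depth (Localization.AtPrime (p'.asIdeal.comap (algebraMap A B)))
        (LocalizedModule (p'.asIdeal.comap (algebraMap A B)).primeCompl M) : ℕ∞) : WithBot ℕ∞) +
        Order.krullDim (Set.Icc ((PrimeSpectrum.comap (algebraMap A B)) p') ((PrimeSpectrum.comap (algebraMap A B)) q')) := by
  obtain ⟨ω, hω⟩ := hA
  haveI := KFlatLib.hasLBase (algebraMap A B)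
  obtain ⟨a, b, -, _, -⟩ := KFlatLib.exists_bounds_of_isDualizing hω
  have hω' := KFlatLib.isDualizing_LBase (B := B) hω hmax
  let ω' := (DTen.LBase (algebraMap A B)).obj ω
  haveI : ω'.IsGE a := KFlatLib.isGE_LBase_flat (B := B) ω a
  obtain ⟨ν, hν, hcov, hmono, -⟩ := KFlatLib.exists_extDegree hω
  obtain ⟨ν', hν', hcov', hmono', -⟩ := KFlatLib.exists_extDegree hω'
  let p := PrimeSpectrum.comap (algebraMap A B) p'
  let q := PrimeSpectrum.comap (algebraMap A B) q'
  have hpq₀ : p ≤ q := Ideal.comap_mono hpq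
  -- base change of Ext supports
  have hsupp : ∀ (N : Type u) [AddCommGroup N] [Module A N] [Module.Finite A N] (i : ℤ) (r : PrimeSpectrum B),
      r ∈ Module.support B ((DTen.LBase (algebraMap A B)).obj (Dual.inD A N) ⟶ ω'⟦i⟧) ↔
        PrimeSpectrum.comap (algebraMap A B) r ∈ Module.support A (Dual.inD A N ⟶ ω⟦i⟧) := by
    intro N _ _ _ i r
    obtain ⟨e⟩ := KFlatLib.exists_homBaseChangeLEquiv (B := B) (X := Dual.inD A N) (Y := ω)
      ((Groth.Agent.S6942.result A 0 ω N).2.2 inferInstance) a i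
    rw [e.support_eq, mem_support_baseChange]
  have hquot : ∀ (I : Ideal A) (i : ℤ) (r : PrimeSpectrum B),
      r ∈ Module.support B (Dual.inD B (B ⧸ I.map (algebraMap A B)) ⟶ ω'⟦i⟧) ↔
        PrimeSpectrum.comap (algebraMap A B) r ∈ Module.support A (Dual.inD A (A ⧸ I) ⟶ ω⟦i⟧) := by
    intro I i r
    obtain ⟨eI⟩ := KFlatLib.nonempty_LBase_inD_quotient (B := B) I
    rw [← hsupp (A ⧸ I) i r, (Linear.homCongr B eI (Iso.refl (ω'⟦i⟧))).support_eq]
  have hdegq : ν' q' = ν q := by
    have h1 := (hquot q.asIdeal (ν q) q').2 (Module.mem_support_iff.2 ((hν q (ν q)).2 rfl))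
    rw [show q.asIdeal.map (algebraMap A B) = q'.asIdeal from hq] at h1
    exact ((hν' q' (ν q)).1 (Module.mem_support_iff.1 h1)).symm
  have hdegp : ν p ≤ ν' p' := by
    have h1 := (hquot p.asIdeal (ν p) p').2 (Module.mem_support_iff.2 ((hν p (ν p)).2 rfl))
    exact KFlatLib.le_extDegree_of_mem_support hν' a hω'.finite_cohomology _ _ h1
  have hsame : LocCoh.depth (Localization.AtPrime p'.asIdeal) (LocalizedModule p'.asIdeal.primeCompl M') =
      LocCoh.depth (Localization.AtPrime p'.asIdeal) (LocalizedModule p'.asIdeal.primeCompl (B ⊗[A] M)) := by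
    let e' : LocalizedModule p'.asIdeal.primeCompl (B ⊗[A] M) ≃ₗ[Localization.AtPrime p'.asIdeal]
        LocalizedModule p'.asIdeal.primeCompl M' :=
      LinearEquiv.ofBijective (LocalizedModule.map p'.asIdeal.primeCompl eM.toLinearMap)
        ⟨LocalizedModule.map_injective _ _ eM.injective, LocalizedModule.map_surjective _ _ eM.surjective⟩
    haveI : Module.Finite (Localization.AtPrime p'.asIdeal) (LocalizedModule p'.asIdeal.primeCompl (B ⊗[A] M)) :=
      Module.Finite.of_isLocalizedModule p'.asIdeal.primeCompl (LocalizedModule.mkLinearMap _ _)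
    haveI : Module.Finite B M' := Module.Finite.equiv eM
    haveI : Module.Finite (Localization.AtPrime p'.asIdeal) (LocalizedModule p'.asIdeal.primeCompl M') :=
      Module.Finite.of_isLocalizedModule p'.asIdeal.primeCompl (LocalizedModule.mkLinearMap _ _)
    unfold LocCoh.depth
    exact (LC.idealDepth_congr _ e').symm
  rw [hsame, krullDim_Icc hcov' hmono' hpq, krullDim_Icc hcov hmono hpq₀]
  have hiff : Nontrivial (LocalizedModule p'.asIdeal.primeCompl (B ⊗[A] M)) ↔
      Nontrivial (LocalizedModule p.asIdeal.primeCompl M) :=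
    Module.mem_support_iff.symm.trans ((mem_support_baseChange M p').trans Module.mem_support_iff)
  rcases subsingleton_or_nontrivial (LocalizedModule p.asIdeal.primeCompl M) with hs | hnt
  · have hs' : Subsingleton (LocalizedModule p'.asIdeal.primeCompl (B ⊗[A] M)) :=
      not_nontrivial_iff_subsingleton.1 fun h => (not_nontrivial_iff_subsingleton.2 hs) (hiff.1 h)
    have e1 : LocCoh.depth (Localization.AtPrime p'.asIdeal) (LocalizedModule p'.asIdeal.primeCompl (B ⊗[A] M)) = ⊤ := by
      unfold LocCoh.depth LocCoh.idealDepth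
      exact if_pos (Subsingleton.elim _ _)
    have e2 : LocCoh.depth (Localization.AtPrime p.asIdeal) (LocalizedModule p.asIdeal.primeCompl M) = ⊤ := by
      unfold LocCoh.depth LocCoh.idealDepth
      exact if_pos (Subsingleton.elim _ _)
    rw [e1, show LocCoh.depth (Localization.AtPrime (p'.asIdeal.comap (algebraMap A B)))
      (LocalizedModule (p'.asIdeal.comap (algebraMap A B)).primeCompl M) = ⊤ from e2]
    refine ⟨le_rfl, ?_⟩
    rfl
  haveI := hnt
  haveI := hiff.2 hnt
  haveI : Module.Finite (Localization.AtPrime p.asIdeal) (LocalizedModule p.asIdeal.primeCompl M) :=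
    Module.Finite.of_isLocalizedModule p.asIdeal.primeCompl (LocalizedModule.mkLinearMap _ _)
  haveI : Module.Finite (Localization.AtPrime p'.asIdeal) (LocalizedModule p'.asIdeal.primeCompl (B ⊗[A] M)) :=
    Module.Finite.of_isLocalizedModule p'.asIdeal.primeCompl (LocalizedModule.mkLinearMap _ _)
  obtain ⟨t, ht⟩ := LC.exists_depth_eq_nat (R := Localization.AtPrime p.asIdeal) (LocalizedModule p.asIdeal.primeCompl M)
  obtain ⟨t', ht'⟩ := LC.exists_depth_eq_nat (R := Localization.AtPrime p'.asIdeal)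
    (LocalizedModule p'.asIdeal.primeCompl (B ⊗[A] M))
  obtain ⟨htop, hmax₁⟩ := ext_top_of_depth hω hν M p t ht
  obtain ⟨htop', hmax₂⟩ := ext_top_of_depth hω' hν' (B ⊗[A] M) p' t' ht'
  obtain ⟨_, ⟨eL⟩⟩ := KFlatLib.exists_LBase_map_iso (B := B) (Dual.inD A M)
  obtain ⟨c⟩ := KFlatLib.exists_extendLEquiv (B := B) (ModuleCat.of A M)
  let eD : (DTen.LBase (algebraMap A B)).obj (Dual.inD A M) ≅ Dual.inD B (B ⊗[A] M) :=
    eL ≪≫ ((ModuleCat.extendScalars.{u, u, u} (algebraMap A B)).mapDerivedCategorySingleFunctor 0).app _ ≪≫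
      (DerivedCategory.singleFunctor (ModuleCat.{u} B) 0).mapIso c.toModuleIso
  have hM : ∀ i : ℤ, p' ∈ Module.support B (Dual.inD B (B ⊗[A] M) ⟶ ω'⟦i⟧) ↔
      p ∈ Module.support A (Dual.inD A M ⟶ ω⟦i⟧) := fun i => by
    rw [← hsupp M i p', (Linear.homCongr B eD (Iso.refl (ω'⟦i⟧))).support_eq]
  have h1 := hmax₁ _ ((hM _).1 htop')
  have h2 := hmax₂ _ ((hM _).2 htop)
  rw [ht', show LocCoh.depth (Localization.AtPrime (p'.asIdeal.comap (algebraMap A B)))
    (LocalizedModule (p'.asIdeal.comap (algebraMap A B)).primeCompl M) = (t : ℕ∞) from ht]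
  have hm := hmono'.monotone hpq
  have hm₀ := hmono.monotone hpq₀
  refine ⟨Nat.cast_le.2 (show t ≤ t' by omega), ?_⟩
  show ((t' : ℕ) : WithBot ℕ∞) + _ = ((t : ℕ) : WithBot ℕ∞) + _
  rw [← Nat.cast_add, ← Nat.cast_add, show t' + (ν' q' - ν' p').toNat = t + (ν q - ν p).toNat by omega]

end Groth.Agent.H1DepthFlat
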